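import Cfsg.Agent.H758.EPX.Reg

/-!
# S5745, `k ≥ 2`: the two-point stabilisers `M` with `M ∩ N = 1`, part 1 (helper580, plan helper746)

* `Act e i g t` : `g` acts on the factor `T_i` as the inner automorphism `t`;
* `TI.irr` : `T_0` has no proper subgroup invariant under `N_M(T_0)`;
* `TI.inner` : `N_M(T_0)` induces all inner automorphisms of `T_0`.
-/

set_option autoImplicit false
set_option linter.unusedSectionVars false

namespace Cfsg.Agent.H580.EPX

open Subgroup Cfsg.Agent.H284 Cfsg.Agent.H209.EPX Cfsg.Agent.H758.EPX Cfsg.Agent.Schreier.Basic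

universe u

variable {G : Type u} [Group G] {H N : Subgroup G} {T : Type} [Group T] {k : ℕ}

/-- `g` acts on the factor `T_i` as the inner automorphism `t` -/
def Act (e : N ≃* (Fin k → T)) (i : Fin k) (g : G) (t : T) : Prop :=
  ∀ s : T, g * inj e i s * g⁻¹ = inj e i (t * s * t⁻¹)

section act

variable {e : N ≃* (Fin k → T)} {i : Fin k}

theorem Act.one : Act e i (1 : G) (1 : T) := fun s => by simp

theorem Act.mul {g g' : G} {t t' : T} (h : Act e i g t) (h' : Act e i g' t') : Act e i (g * g') (t * t') := by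
  intro s
  have h1 : g * g' * inj e i s * (g * g')⁻¹ = g * (g' * inj e i s * g'⁻¹) * g⁻¹ := by group
  rw [h1, h' s, h]
  congr 1
  group

theorem Act.inv {g : G} {t : T} (h : Act e i g t) : Act e i g⁻¹ t⁻¹ := by
  intro s
  have h1 := h (t⁻¹ * s * t)
  have h2 : t * (t⁻¹ * s * t) * t⁻¹ = s := by group
  rw [h2] at h1
  rw [← h1]
  have h3 : t⁻¹ * s * t⁻¹⁻¹ = t⁻¹ * s * t := by group
  rw [h3]
  group

theorem act_N (n : N) : Act e i (n : G) (e n i) := fun s => conj_inj e n i s

theorem act_inj (t : T) : Act e i (inj e i t) t := by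
  intro s
  rw [map_mul, map_mul, map_inv]

theorem Act.unique [IsSimpleGroup T] (hna : ∃ a b : T, a * b ≠ b * a) {g : G} {t t' : T} (h : Act e i g t)
    (h' : Act e i g t') : t = t' := by
  have h1 : ∀ s : T, t * s * t⁻¹ = t' * s * t'⁻¹ := fun s => inj_injective e i ((h s).symm.trans (h' s))
  have h2 : t'⁻¹ * t ∈ Subgroup.center T := by
    rw [Subgroup.mem_center_iff]
    intro s
    have h3 := h1 s
    have h4 : t'⁻¹ * t * s = t'⁻¹ * (t * s * t⁻¹) * t := by group
    rw [h4, h3]
    group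
  rcases (inferInstance : (Subgroup.center T).Normal).eq_bot_or_eq_top with h3 | h3
  · rw [h3, Subgroup.mem_bot, inv_mul_eq_one] at h2
    exact h2.symm
  · exfalso
    obtain ⟨a, b, hab⟩ := hna
    apply hab
    have : b ∈ Subgroup.center T := by rw [h3]; trivial
    exact Subgroup.mem_center_iff.mp this a

theorem act_one_iff {g : G} : Act e i g (1 : T) ↔ ∀ s : T, g * inj e i s = inj e i s * g := by
  constructor
  · intro h s
    have h1 := h s
    rw [one_mul, inv_one, mul_one, mul_inv_eq_iff_eq_mul] at h1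
    exact h1
  · intro h s
    rw [h s, mul_inv_cancel_right, one_mul, inv_one, mul_one]

/-- an element acting as an inner automorphism normalises the factor -/
theorem Act.cj_eq {g : G} {t : T} (h : Act e i g t) : cj g (fc e i) = fc e i := by
  have key : ∀ {g : G} {t : T}, Act e i g t → cj g (fc e i) ≤ fc e i := by
    rintro g t h _ ⟨_, ⟨s, rfl⟩, rfl⟩
    exact ⟨t * s * t⁻¹, (h s).symm⟩
  refine le_antisymm (key h) ?_
  have := cj_mono (x := g) (key h.inv)
  rwa [cj_cj_inv] at this

theorem exists_conj {q : G} (hq : cj q (fc e i) = fc e i) (t : T) : ∃ t' : T, inj e i t' = q * inj e i t * q⁻¹ := by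
  have h1 : q * inj e i t * q⁻¹ ∈ fc e i := by
    rw [← hq]
    exact conj_mem_cj (inj_mem e i t)
  exact h1

theorem cj_inv_eq {q : G} (hq : cj q (fc e i) = fc e i) : cj q⁻¹ (fc e i) = fc e i := by
  nth_rewrite 1 [← hq]
  rw [cj_inv_cj]

/-- conjugating `Act` -/
theorem Act.conj {m q : G} {t t' : T} (h : Act e i m t) (hq : cj q (fc e i) = fc e i)
    (ht : inj e i t' = q * inj e i t * q⁻¹) : Act e i (q * m * q⁻¹) t' := by
  intro s
  obtain ⟨s', hs'⟩ := exists_conj (cj_inv_eq hq) s
  have h1 : q * m * q⁻¹ * inj e i s * (q * m * q⁻¹)⁻¹ = q * (m * inj e i s' * m⁻¹) * q⁻¹ := by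
    rw [hs']
    group
  rw [h1, h s', map_mul, map_mul, map_inv, hs', map_mul, map_mul, map_inv, ht]
  group

end act

/-- `M = H ∩ H^x` meets `N` trivially -/
structure TI (e : N ≃* (Fin k → T)) (H : Subgroup G) (x : G) : Prop where
  nmem : x ∉ H
  inf : ∀ m ∈ H ⊓ cj x H, m ∈ N → m = 1

section ti

variable {e : N ≃* (Fin k → T)} {x : G} [Finite G] (h : EPS H N e) (hx : TI e H x)
include h hx

theorem dec {g : G} (hg : g ∈ H) : ∃ n ∈ N, ∃ m ∈ H ⊓ cj x H, g = n * m := h.ep.fac h.le h.nrm h.ne hx.nmem hg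

theorem dec_unique {n n' m m' : G} (hn : n ∈ N) (hn' : n' ∈ N) (hm : m ∈ H ⊓ cj x H) (hm' : m' ∈ H ⊓ cj x H)
    (he : n * m = n' * m') : m = m' := by
  have h1 : m * m'⁻¹ ∈ N := by
    have h2 : m * m'⁻¹ = n⁻¹ * n' := by
      have h3 : m = n⁻¹ * (n' * m') := by rw [← he]; group
      rw [h3]
      group
    rw [h2]
    exact N.mul_mem (N.inv_mem hn) hn'
  exact mul_inv_eq_one.1 (hx.inf _ (Subgroup.mul_mem _ hm (Subgroup.inv_mem _ hm')) h1)

/-- no proper subgroup of `T_i` is invariant under `N_M(T_i)` (as in H758.EPX.EPS.Dt_ne_bot) -/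
theorem irr {i0 : Fin k} {L : Subgroup G} (hL : L ≤ fc e i0)
    (hLM : ∀ m ∈ H ⊓ cj x H, cj m (fc e i0) = fc e i0 → ∀ l ∈ L, m * l * m⁻¹ ∈ L) : L = ⊥ ∨ L = fc e i0 := by
  set M := H ⊓ cj x H with hM
  by_contra hcon
  push Not at hcon
  obtain ⟨hL0, hL1⟩ := hcon
  have hXN : ncl M L ≤ N := by
    refine iSup₂_le fun m hm => ?_
    rintro _ ⟨l, hl, rfl⟩
    exact h.nrm m (mem_inf.1 hm).1 l (fc_le e i0 (hL hl))
  have hco : ∀ n : N, (n : G) ∈ ncl M L → inj e i0 (e n i0) ∈ L := by
    intro n hn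
    let S : Subgroup N := (L.comap (inj e i0)).comap ((Pi.evalMonoidHom (fun _ : Fin k => T) i0).comp e.toMonoidHom)
    have hS : ncl M L ≤ S.map N.subtype := by
      refine iSup₂_le fun m hm => ?_
      rintro _ ⟨l, hl, rfl⟩
      have hlN := fc_le e i0 (hL hl)
      have h2 : m * l * m⁻¹ ∈ N := h.nrm m (mem_inf.1 hm).1 l hlN
      refine ⟨⟨_, h2⟩, ?_, rfl⟩
      show inj e i0 (e ⟨m * l * m⁻¹, h2⟩ i0) ∈ L
      obtain ⟨j, hj⟩ := EPS.exists_cj h (mem_inf.1 hm).1 i0
      have h3 : m * l * m⁻¹ ∈ fc e j := by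
        rw [← hj]
        exact conj_mem_cj (hL hl)
      obtain ⟨t, ht⟩ := h3
      have h4 : (⟨m * l * m⁻¹, h2⟩ : N) = ⟨inj e j t, inj_mem_N e j t⟩ := Subtype.ext ht.symm
      rw [h4, e_inj]
      by_cases hij : j = i0
      · subst hij
        rw [Pi.mulSingle_eq_same, ht]
        exact hLM m hm hj l hl
      · rw [Pi.mulSingle_eq_of_ne (Ne.symm hij), map_one]
        exact L.one_mem
    obtain ⟨n', hn', hnn⟩ := hS hn
    have : n' = n := Subtype.ext hnn
    exact this ▸ hn'
  have h5 : M ⊔ ncl M L ≤ H := sup_le inf_le_left (hXN.trans h.le)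
  rcases h.ep.two x hx.nmem _ (le_sup_left : M ≤ M ⊔ ncl M L) h5 with h6 | h6
  · apply hL0
    rw [eq_bot_iff]
    intro l hl
    rw [Subgroup.mem_bot]
    have h7 : l ∈ M ⊔ ncl M L := (le_ncl M L |>.trans le_sup_right) hl
    rw [h6] at h7
    exact hx.inf l h7 (fc_le e i0 (hL hl))
  · apply hL1
    apply le_antisymm hL
    rintro _ ⟨t, rfl⟩
    have h7 : inj e i0 t ∈ M ⊔ ncl M L := by
      rw [h6]
      exact h.le (inj_mem_N e i0 t)
    obtain ⟨n, hn, m, hm, hnm⟩ := mem_sup_norm (fun m hm n hn => ncl_conj hm hn) h7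
    have h8 : m ∈ N := by
      have : m = n⁻¹ * inj e i0 t := by rw [hnm]; group
      rw [this]
      exact N.mul_mem (N.inv_mem (hXN hn)) (inj_mem_N e i0 t)
    rw [hx.inf m hm h8, mul_one] at hnm
    have h9 := hco ⟨inj e i0 t, inj_mem_N e i0 t⟩ (show inj e i0 t ∈ ncl M L from hnm ▸ hn)
    rw [e_inj, Pi.mulSingle_eq_same] at h9
    exact h9

/-- **`N_M(T_i)` induces all inner automorphisms** -/
theorem inner (hsch : Sch T) (i0 : Fin k) (t : T) : ∃ q ∈ H ⊓ cj x H, Act e i0 q t := by
  have hs := h.simple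
  have hfin : Finite T := Finite.of_injective _ (inj_injective e i0)
  set M := H ⊓ cj x H with hM
  let P : Subgroup T :=
    { carrier := {t | ∃ q ∈ M, Act e i0 q t}
      one_mem' := ⟨1, M.one_mem, Act.one⟩
      mul_mem' := by
        rintro a b ⟨q, hq, hqa⟩ ⟨q', hq', hqb⟩
        exact ⟨q * q', M.mul_mem hq hq', hqa.mul hqb⟩
      inv_mem' := by
        rintro a ⟨q, hq, hqa⟩
        exact ⟨q⁻¹, M.inv_mem hq, hqa.inv⟩ }
  have hP : P = ⊤ := by
    rcases irr h hx (i0 := i0) (L := P.map (inj e i0)) (by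
      rintro _ ⟨s, _, rfl⟩
      exact inj_mem e i0 s) (by
      rintro m hm hmi _ ⟨s, ⟨q, hq, hqs⟩, rfl⟩
      obtain ⟨s', hs'⟩ := exists_conj hmi s
      exact ⟨s', ⟨m * q * m⁻¹, M.mul_mem (M.mul_mem hm hq) (M.inv_mem hm), hqs.conj hmi hs'⟩, hs'⟩) with h1 | h1
    · exfalso
      rw [Subgroup.map_eq_bot_iff_of_injective _ (inj_injective e i0)] at h1
      -- the group of automorphisms induced
      let S : Subgroup (MulAut T) :=
        { carrier := {σ | ∃ q ∈ M, ∀ s : T, q * inj e i0 s * q⁻¹ = inj e i0 (σ s)}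
          one_mem' := ⟨1, M.one_mem, fun s => by simp⟩
          mul_mem' := by
            rintro σ τ ⟨q, hq, hqa⟩ ⟨q', hq', hqb⟩
            refine ⟨q * q', M.mul_mem hq hq', fun s => ?_⟩
            have h2 : q * q' * inj e i0 s * (q * q')⁻¹ = q * (q' * inj e i0 s * q'⁻¹) * q⁻¹ := by group
            rw [h2, hqb, hqa]
            rfl
          inv_mem' := by
            rintro σ ⟨q, hq, hqa⟩
            refine ⟨q⁻¹, M.inv_mem hq, fun s => ?_⟩
            have h2 := hqa (σ⁻¹ s)
            rw [MulAut.apply_inv_self] at h2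
            rw [← h2]
            group }
      have hS : Group.IsSolvable S := by
        apply isSolvable_of_perfect_eq_bot
        intro D hD hDp
        rw [Subgroup.eq_bot_iff_forall]
        intro σ hσ
        obtain ⟨c, hc⟩ := hsch D hDp hσ
        obtain ⟨q, hq, hqs⟩ := hD hσ
        have h2 : c ∈ P := ⟨q, hq, fun s => by rw [hqs s, ← hc]; rfl⟩
        rw [h1, Subgroup.mem_bot] at h2
        rw [← hc, h2, map_one]
      obtain ⟨a, b, hab⟩ := h.nab
      apply hab
      refine reg_comm S hS (fun L hL => ?_) a b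
      rcases irr h hx (i0 := i0) (L := L.map (inj e i0)) (by
        rintro _ ⟨s, _, rfl⟩
        exact inj_mem e i0 s) (by
        rintro m hm hmi _ ⟨s, hs, rfl⟩
        -- the automorphism induced by `m`
        choose f hf using exists_conj hmi
        have hfm : ∀ a b, f (a * b) = f a * f b := by
          intro a b
          apply inj_injective e i0
          rw [hf, map_mul, map_mul, hf, hf]
          group
        have hfi : Function.Injective f := by
          intro a b hab
          have h3 := congrArg (inj e i0) hab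
          rw [hf, hf] at h3
          exact inj_injective e i0 (mul_left_cancel (mul_right_cancel h3))
        let σ : MulAut T := MulEquiv.ofBijective (MonoidHom.mk' f hfm) (Finite.injective_iff_bijective.1 hfi)
        have hσ : σ ∈ S := ⟨m, hm, fun s => (hf s).symm⟩
        exact ⟨f s, hL σ hσ s hs, hf s⟩) with h3 | h3
      · left
        rwa [Subgroup.map_eq_bot_iff_of_injective _ (inj_injective e i0)] at h3
      · right
        rw [Subgroup.eq_top_iff']
        intro s
        have h4 : inj e i0 s ∈ L.map (inj e i0) := by rw [h3]; exact inj_mem e i0 s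
        obtain ⟨s', hs', h5⟩ := h4
        rwa [← inj_injective e i0 h5]
    · rw [Subgroup.eq_top_iff']
      intro s
      have h4 : inj e i0 s ∈ P.map (inj e i0) := by rw [h1]; exact inj_mem e i0 s
      obtain ⟨s', hs', h5⟩ := h4
      rwa [← inj_injective e i0 h5]
  have h2 : t ∈ P := by rw [hP]; trivial
  exact h2

end ti

end Cfsg.Agent.H580.EPX
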