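import Cfsg.Agent.H580.EPX.TypeI

/-!
# S5745, `k ≥ 2`: the two-point stabilisers `M` with `M ∩ N = 1`, part 2 (helper580, plan helper746)

`M` is determined by a surjective homomorphism `C_H(T_0) → T` and `k - 1` elements of `T`.
-/

set_option autoImplicit false
set_option linter.unusedSectionVars false

namespace Cfsg.Agent.H580.EPX

open Subgroup Cfsg.Agent.H284 Cfsg.Agent.H209.EPX Cfsg.Agent.H758.EPX Cfsg.Agent.Schreier.Basic

universe u

variable {G : Type u} [Group G] {H N : Subgroup G} {T : Type} [Group T] {k : ℕ}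

/-- the centraliser in `H` of the factor `T_i` -/
def Zc (e : N ≃* (Fin k → T)) (H : Subgroup G) (i : Fin k) : Subgroup G where
  carrier := {z | z ∈ H ∧ Act e i z 1}
  one_mem' := ⟨H.one_mem, Act.one⟩
  mul_mem' := by
    rintro a b ⟨ha, ha'⟩ ⟨hb, hb'⟩
    refine ⟨H.mul_mem ha hb, ?_⟩
    have := ha'.mul hb'
    rwa [mul_one] at this
  inv_mem' := by
    rintro a ⟨ha, ha'⟩
    refine ⟨H.inv_mem ha, ?_⟩
    have := ha'.inv
    rwa [inv_one] at this

/-- `f` is the homomorphism belonging to `M` -/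
def Spec (e : N ≃* (Fin k → T)) (H M : Subgroup G) (i : Fin k) (f : Zc e H i →* T) : Prop :=
  ∀ z : Zc e H i, ∀ n ∈ N, ∀ m ∈ M, (z : G) = n * m → Act e i m (f z)

section ti

variable {e : N ≃* (Fin k → T)} {x : G} [Finite G] (h : EPS H N e) (hx : TI e H x)
include h hx

theorem exists_f (i : Fin k) : ∃ f : Zc e H i →* T, Spec e H (H ⊓ cj x H) i f := by
  have hs := h.simple
  have h1 : ∀ z : Zc e H i, ∃ t : T, ∀ n ∈ N, ∀ m ∈ H ⊓ cj x H, (z : G) = n * m → Act e i m t := by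
    intro z
    obtain ⟨n, hn, m, hm, hz⟩ := dec h hx z.2.1
    refine ⟨(e ⟨n, hn⟩ i)⁻¹, fun n' hn' m' hm' hz' => ?_⟩
    have h2 : m = m' := dec_unique h hx hn hn' hm hm' (hz.symm.trans hz')
    have h3 : Act e i (n⁻¹ * (z : G)) ((e ⟨n, hn⟩ i)⁻¹ * 1) := (act_N (e := e) (i := i) ⟨n, hn⟩).inv.mul z.2.2
    rw [hz, inv_mul_cancel_left, mul_one] at h3
    rwa [← h2]
  choose f hf using h1
  refine ⟨MonoidHom.mk' f fun z z' => ?_, hf⟩
  obtain ⟨n, hn, m, hm, hz⟩ := dec h hx z.2.1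
  obtain ⟨n', hn', m', hm', hz'⟩ := dec h hx z'.2.1
  have h2 := (hf z n hn m hm hz).mul (hf z' n' hn' m' hm' hz')
  have h3 := hf (z * z') (n * (m * n' * m⁻¹)) (N.mul_mem hn (h.nrm m (mem_inf.1 hm).1 n' hn')) (m * m')
    (Subgroup.mul_mem _ hm hm') (by
      rw [Subgroup.coe_mul, hz, hz']
      group)
  exact h3.unique h.nab h2

theorem f_surj (hsch : Sch T) {i : Fin k} {f : Zc e H i →* T} (hf : Spec e H (H ⊓ cj x H) i f) :
    Function.Surjective f := by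
  have hs := h.simple
  intro t
  obtain ⟨q, hq, hqt⟩ := inner h hx hsch i t
  have h1 : (inj e i t)⁻¹ * q ∈ Zc e H i := by
    refine ⟨H.mul_mem (H.inv_mem (h.le (inj_mem_N e i t))) (mem_inf.1 hq).1, ?_⟩
    have := (act_inj (e := e) (i := i) t).inv.mul hqt
    rwa [inv_mul_cancel] at this
  have h2 := hf ⟨_, h1⟩ (inj e i t)⁻¹ (N.inv_mem (inj_mem_N e i t)) q hq rfl
  exact ⟨_, h2.unique h.nab hqt⟩

omit hx in
/-- two `M`'s with the same homomorphism act in the same way -/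
theorem same_act {x y : G} (hx : TI e H x) (hy : TI e H y) {i : Fin k} {f : Zc e H i →* T}
    (hfx : Spec e H (H ⊓ cj x H) i f) (hfy : Spec e H (H ⊓ cj y H) i f) (hs : Function.Surjective f) {n q q' : G}
    (hn : n ∈ N) (hq : q ∈ H ⊓ cj x H) (hq' : q' ∈ H ⊓ cj y H) (he : q = n * q') (hqi : cj q (fc e i) = fc e i)
    (t : T) : q * inj e i t * q⁻¹ = q' * inj e i t * q'⁻¹ := by
  have hsim := h.simple
  have hqi' : cj q' (fc e i) = fc e i := by
    have h1 : q' = n⁻¹ * q := by rw [he, inv_mul_cancel_left]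
    rw [h1, cj_mul, hqi, cj_fc e (N.inv_mem hn)]
  obtain ⟨z, rfl⟩ := hs t
  obtain ⟨n1, hn1, m1, hm1, hz1⟩ := dec h hx z.2.1
  obtain ⟨n2, hn2, m2, hm2, hz2⟩ := dec h hy z.2.1
  have h1 := hfx z n1 hn1 m1 hm1 hz1
  have h2 := hfy z n2 hn2 m2 hm2 hz2
  obtain ⟨t1, ht1⟩ := exists_conj hqi (f z)
  obtain ⟨t2, ht2⟩ := exists_conj hqi' (f z)
  have hz : q * (z : G) * q⁻¹ ∈ Zc e H i := by
    refine ⟨H.mul_mem (H.mul_mem (mem_inf.1 hq).1 z.2.1) (H.inv_mem (mem_inf.1 hq).1), ?_⟩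
    exact z.2.2.conj hqi (by simp)
  have h3 := hfx ⟨_, hz⟩ (q * n1 * q⁻¹) (h.nrm q (mem_inf.1 hq).1 n1 hn1) (q * m1 * q⁻¹)
    (Subgroup.mul_mem _ (Subgroup.mul_mem _ hq hm1) (Subgroup.inv_mem _ hq)) (by
      change q * (z : G) * q⁻¹ = _
      rw [hz1]
      group)
  have hm3 : q' * m2 * q'⁻¹ ∈ H ⊓ cj y H :=
    Subgroup.mul_mem _ (Subgroup.mul_mem _ hq' hm2) (Subgroup.inv_mem _ hq')
  have h4 := hfy ⟨_, hz⟩ (n * (q' * n2 * q'⁻¹) * ((q' * m2 * q'⁻¹) * n⁻¹ * (q' * m2 * q'⁻¹)⁻¹))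
    (N.mul_mem (N.mul_mem hn (h.nrm q' (mem_inf.1 hq').1 n2 hn2))
      (h.nrm _ (mem_inf.1 hm3).1 _ (N.inv_mem hn))) (q' * m2 * q'⁻¹) hm3 (by
      change q * (z : G) * q⁻¹ = _
      rw [hz2, he]
      group)
  have h5 := h3.unique h.nab (h1.conj hqi ht1)
  have h6 := h4.unique h.nab (h2.conj hqi' ht2)
  rw [← ht1, ← ht2, ← h5, ← h6]

omit hx in
theorem le_of_data {x y : G} (hx : TI e H x) (hy : TI e H y) {i0 : Fin k} {f : Zc e H i0 →* T}
    (hfx : Spec e H (H ⊓ cj x H) i0 f) (hfy : Spec e H (H ⊓ cj y H) i0 f) (hs : Function.Surjective f)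
    (hh : Fin k → G) (hhc : ∀ i, cj (hh i) (fc e i0) = fc e i) (ν μ : Fin k → N)
    (hν : ∀ i, hh i * ν i ∈ H ⊓ cj x H) (hμ : ∀ i, hh i * μ i ∈ H ⊓ cj y H) (hνμ : ∀ i, e (ν i) i0 = e (μ i) i0) :
    H ⊓ cj x H ≤ H ⊓ cj y H := by
  intro g hg
  obtain ⟨n, hn, m, hm, hgn⟩ := dec h hy (mem_inf.1 hg).1
  suffices hn1 : n = 1 by
    rw [hgn, hn1, one_mul]
    exact hm
  -- `n` centralises all the factors
  have key : ∀ i : Fin k, ∀ s : T, n * inj e i s = inj e i s * n := by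
    intro i
    obtain ⟨j, hj⟩ := EPS.exists_cj h (H.inv_mem (mem_inf.1 hg).1) i
    have hgj : cj g (fc e j) = fc e i := by rw [← hj, cj_cj_inv]
    set ai := hh i * (ν i : G) with hai
    set aj := hh j * (ν j : G) with haj
    set bi := hh i * (μ i : G) with hbi
    set bj := hh j * (μ j : G) with hbj
    have hbic : cj bi (fc e i0) = fc e i := by rw [hbi, cj_mul, cj_fc e (μ i).2, hhc]
    have haic : cj ai (fc e i0) = fc e i := by rw [hai, cj_mul, cj_fc e (ν i).2, hhc]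
    have hbjc : cj bj (fc e i0) = fc e j := by rw [hbj, cj_mul, cj_fc e (μ j).2, hhc]
    have hajc : cj aj (fc e i0) = fc e j := by rw [haj, cj_mul, cj_fc e (ν j).2, hhc]
    have hρ : ∀ l : Fin k, Act e i0 (((μ l)⁻¹ * ν l : N) : G) 1 := by
      intro l
      have h1 := act_N (e := e) (i := i0) ((μ l)⁻¹ * ν l)
      have h2 : e ((μ l)⁻¹ * ν l) i0 = 1 := by
        rw [map_mul, map_inv, Pi.mul_apply, Pi.inv_apply, hνμ, inv_mul_cancel]
      rwa [h2] at h1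
    have hab : ∀ l : Fin k, hh l * (ν l : G) = hh l * (μ l : G) * (((μ l)⁻¹ * ν l : N) : G) := by
      intro l
      rw [Subgroup.coe_mul, Subgroup.coe_inv]
      group
    have hai' : ai = bi * (((μ i)⁻¹ * ν i : N) : G) := hab i
    have haj' : aj = bj * (((μ j)⁻¹ * ν j : N) : G) := hab j
    set ρi : G := (((μ i)⁻¹ * ν i : N) : G) with hρi
    set ρj : G := (((μ j)⁻¹ * ν j : N) : G) with hρj
    have hρiN : ρi ∈ N := ((μ i)⁻¹ * ν i).2
    have hρjN : ρj ∈ N := ((μ j)⁻¹ * ν j).2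
    have hqm : ai⁻¹ * g * aj ∈ H ⊓ cj x H := Subgroup.mul_mem _ (Subgroup.mul_mem _ (Subgroup.inv_mem _ (hν i)) hg) (hν j)
    have hqm' : bi⁻¹ * m * bj ∈ H ⊓ cj y H := Subgroup.mul_mem _ (Subgroup.mul_mem _ (Subgroup.inv_mem _ (hμ i)) hm) (hμ j)
    have hbiH : bi ∈ H := (mem_inf.1 (hμ i)).1
    have hq : ai⁻¹ * g * aj = (ρi⁻¹ * (bi⁻¹ * n * bi) * ((bi⁻¹ * m * bj) * ρj * (bi⁻¹ * m * bj)⁻¹)) * (bi⁻¹ * m * bj) := by
      rw [hai', haj', hgn]
      group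
    have hqc : cj (ai⁻¹ * g * aj) (fc e i0) = fc e i0 := by
      rw [cj_mul, cj_mul, hajc, hgj, ← haic, cj_inv_cj]
    have hNm : ρi⁻¹ * (bi⁻¹ * n * bi) * ((bi⁻¹ * m * bj) * ρj * (bi⁻¹ * m * bj)⁻¹) ∈ N := by
      refine N.mul_mem (N.mul_mem (N.inv_mem hρiN) ?_) (h.nrm _ (mem_inf.1 hqm').1 _ hρjN)
      have := h.nrm bi⁻¹ (H.inv_mem hbiH) n hn
      rwa [inv_inv] at this
    have hsame := same_act h hx hy hfx hfy hs hNm hqm hqm' hq hqc
    -- `g` and `m` act in the same way on `T_j`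
    have hact : ∀ y ∈ fc e j, g * y * g⁻¹ = m * y * m⁻¹ := by
      intro y hy
      rw [← hbjc] at hy
      obtain ⟨_, ⟨t, rfl⟩, rfl⟩ := hy
      change g * (bj * inj e i0 t * bj⁻¹) * g⁻¹ = m * (bj * inj e i0 t * bj⁻¹) * m⁻¹
      have h1 : g * (bj * inj e i0 t * bj⁻¹) * g⁻¹ =
          ai * ((ai⁻¹ * g * aj) * (ρj⁻¹ * inj e i0 t * ρj) * (ai⁻¹ * g * aj)⁻¹) * ai⁻¹ := by
        rw [haj']
        group
      have h2 : ρj⁻¹ * inj e i0 t * ρj = inj e i0 t := by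
        have h3 := act_one_iff.1 (hρ j) t
        rw [mul_assoc, ← h3, inv_mul_cancel_left]
      have h3 : m * (bj * inj e i0 t * bj⁻¹) * m⁻¹ =
          bi * ((bi⁻¹ * m * bj) * inj e i0 t * (bi⁻¹ * m * bj)⁻¹) * bi⁻¹ := by
        group
      rw [h1, h2, h3, ← hsame t]
      obtain ⟨t', ht'⟩ := exists_conj hqc t
      rw [← ht', hai']
      have h4 : ρi * inj e i0 t' = inj e i0 t' * ρi := act_one_iff.1 (hρ i) t'
      have h5 : bi * ρi * inj e i0 t' * (bi * ρi)⁻¹ = bi * (ρi * inj e i0 t') * ρi⁻¹ * bi⁻¹ := by group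
      rw [h5, h4]
      group
    intro s
    have h1 : m⁻¹ * inj e i s * m ∈ fc e j := by
      have h2 : cj m (fc e j) = fc e i := by
        have h3 : m = n⁻¹ * g := by rw [hgn, inv_mul_cancel_left]
        rw [h3, cj_mul, hgj, cj_fc e (N.inv_mem hn)]
      exact mem_cj.1 (by rw [h2]; exact inj_mem e i s)
    have h2 := hact _ h1
    have h3 : m * (m⁻¹ * inj e i s * m) * m⁻¹ = inj e i s := by group
    have h4 : g * (m⁻¹ * inj e i s * m) * g⁻¹ = n * inj e i s * n⁻¹ := by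
      rw [hgn]
      group
    rw [h3, h4] at h2
    exact mul_inv_eq_iff_eq_mul.1 h2
  have h1 : n ∈ Subgroup.centralizer (N : Set G) := by
    have h2 : N ≤ Subgroup.centralizer ({n} : Set G) := by
      refine (N_le_iSup e).trans (iSup_le fun i => ?_)
      rintro _ ⟨s, rfl⟩
      rw [Subgroup.mem_centralizer_singleton_iff]
      exact (key i s).symm
    intro y hy
    exact Subgroup.mem_centralizer_singleton_iff.mp (h2 hy)
  rwa [h.cent, Subgroup.mem_bot] at h1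

end ti

/-- **Type (i)** : the number of `M` with `M ∩ N = 1`, in terms of the number of surjective homomorphisms. -/
theorem ncard_typeI' [Finite G] {e : N ≃* (Fin k → T)} (h : EPS H N e) (hsch : Sch T) (i0 : Fin k) {c : ℕ}
    (hc : {f : Zc e H i0 →* T | Function.Surjective f}.ncard ≤ c) :
    {M : Subgroup G | ∃ x, x ∉ H ∧ M = H ⊓ cj x H ∧ M ⊓ N = ⊥}.ncard ≤ Nat.card T ^ (k - 1) * c := by
  classical
  have hfin : Finite T := Finite.of_injective _ (inj_injective e i0)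
  -- the transversal
  have hex : ∀ i : Fin k, ∃ g ∈ H, cj g (fc e i0) = fc e i ∧ (i = i0 → g = 1) := by
    intro i
    by_cases hi : i = i0
    · subst hi
      exact ⟨1, H.one_mem, cj_one _, fun _ => rfl⟩
    · obtain ⟨g, hg, hgi⟩ := EPS.trans h i0 i
      exact ⟨g, hg, hgi, fun h => absurd h hi⟩
  choose hh hhH hhc hh1 using hex
  set S : Set (Subgroup G) := {M : Subgroup G | ∃ x, x ∉ H ∧ M = H ⊓ cj x H ∧ M ⊓ N = ⊥} with hS
  have hti : ∀ M ∈ S, ∃ x, TI e H x ∧ M = H ⊓ cj x H := by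
    rintro M ⟨x, hx, hM, hMN⟩
    refine ⟨x, ⟨hx, fun m hm hmN => ?_⟩, hM⟩
    have h1 : m ∈ M ⊓ N := ⟨by rw [hM]; exact hm, hmN⟩
    rwa [hMN, Subgroup.mem_bot] at h1
  have hdata : ∀ M : S, ∃ (f : Zc e H i0 →* T) (ν : Fin k → N), Function.Surjective f ∧ Spec e H M.1 i0 f ∧
      ν i0 = 1 ∧ ∀ i, hh i * ν i ∈ M.1 := by
    rintro ⟨M, hM⟩
    obtain ⟨x, hx, rfl⟩ := hti M hM
    obtain ⟨f, hf⟩ := exists_f h hx i0
    have hν : ∀ i : Fin k, ∃ n : N, (i = i0 → n = 1) ∧ hh i * n ∈ H ⊓ cj x H := by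
      intro i
      by_cases hi : i = i0
      · refine ⟨1, fun _ => rfl, ?_⟩
        rw [hh1 i hi, Subgroup.coe_one, mul_one]
        exact Subgroup.one_mem _
      · obtain ⟨n, hn, m, hm, he⟩ := dec h hx (H.inv_mem (hhH i))
        refine ⟨⟨n, hn⟩, fun h => absurd h hi, ?_⟩
        have h2 : hh i * n = m⁻¹ := by
          have h3 : hh i = m⁻¹ * n⁻¹ := by rw [← mul_inv_rev, ← he, inv_inv]
          rw [h3, inv_mul_cancel_right]
        change hh i * n ∈ _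
        rw [h2]
        exact Subgroup.inv_mem _ hm
    choose ν hν1 hν2 using hν
    exact ⟨f, ν, f_surj h hx hsch hf, hf, hν1 i0 rfl, hν2⟩
  choose F ν hF1 hF2 hν1 hν2 using hdata
  let Φ : S → {f : Zc e H i0 →* T | Function.Surjective f} × ({i : Fin k // i ≠ i0} → T) :=
    fun M => (⟨F M, hF1 M⟩, fun i => e (ν M i.1) i0)
  have hΦ : Function.Injective Φ := by
    rintro ⟨M, hM⟩ ⟨M', hM'⟩ hMM
    have h1 : F ⟨M, hM⟩ = F ⟨M', hM'⟩ := congrArg Subtype.val (congrArg Prod.fst hMM)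
    have h2 : ∀ i, e (ν ⟨M, hM⟩ i) i0 = e (ν ⟨M', hM'⟩ i) i0 := by
      intro i
      by_cases hi : i = i0
      · rw [hi, hν1, hν1]
      · exact congrFun (congrArg Prod.snd hMM) ⟨i, hi⟩
    obtain ⟨x, hx, hMx⟩ := hti M hM
    obtain ⟨y, hy, hMy⟩ := hti M' hM'
    apply Subtype.ext
    change M = M'
    have hfx : Spec e H (H ⊓ cj x H) i0 (F ⟨M, hM⟩) := by
      have := hF2 ⟨M, hM⟩
      rw [← hMx]
      exact this
    have hfy : Spec e H (H ⊓ cj y H) i0 (F ⟨M, hM⟩) := by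
      have := hF2 ⟨M', hM'⟩
      rw [← hMy, h1]
      exact this
    have hνx : ∀ i, hh i * (ν ⟨M, hM⟩ i : G) ∈ H ⊓ cj x H := by
      intro i
      rw [← hMx]
      exact hν2 ⟨M, hM⟩ i
    have hνy : ∀ i, hh i * (ν ⟨M', hM'⟩ i : G) ∈ H ⊓ cj y H := by
      intro i
      rw [← hMy]
      exact hν2 ⟨M', hM'⟩ i
    rw [hMx, hMy]
    exact le_antisymm (le_of_data h hx hy hfx hfy (hF1 _) hh hhc _ _ hνx hνy h2)
      (le_of_data h hy hx hfy hfx (hF1 _) hh hhc _ _ hνy hνx fun i => (h2 i).symm)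
  have hfinf : Finite (Zc e H i0 →* T) := Finite.of_injective (fun f : Zc e H i0 →* T => (f : Zc e H i0 → T))
    DFunLike.coe_injective
  have h3 := Nat.card_le_card_of_injective Φ hΦ
  rw [Nat.card_prod, Nat.card_fun, Nat.card_coe_set_eq, Nat.card_coe_set_eq] at h3
  have h4 : Nat.card {i : Fin k // i ≠ i0} = k - 1 := by
    rw [Nat.card_eq_fintype_card, Fintype.card_subtype_compl, Fintype.card_fin, Fintype.card_subtype_eq]
  rw [h4, mul_comm] at h3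
  exact h3.trans (Nat.mul_le_mul_left _ hc)

end Cfsg.Agent.H580.EPX
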